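import Groth.Agent.AVUniv.Rep
import Groth.Agent.S12404
import Groth.Agent.TopDim.Basic
import Mathlib.AlgebraicGeometry.Morphisms.LocalFlatDescent

/-!
A Picard scheme of an abelian variety is covered by translates of the dual.
-/

set_option autoImplicit false
set_option backward.isDefEq.respectTransparency false
set_option backward.isDefEq.respectTransparency.types false
set_option linter.style.haveILetI false
set_option linter.unusedSectionVars false
set_option maxHeartbeats 2000000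

universe u

open CategoryTheory MonoidalCategory CartesianMonoidalCategory MonObj GrpObj AlgebraicGeometry
open Groth.Agent.W7Cube (pull pull_pull pull_cls)
open Groth.Agent.AVDual (Weak)
open Groth.Agent.AgBC (dn dnHom xtMap_inv bcDual_fst eq_of_fst reassoc reassoc_ovrHom pullCl_inv_hom)

noncomputable section

namespace Groth.Agent.AVUniv

attribute [local instance] W7Cube.law

section baseChange

variable {S S' : Scheme.{u}} (τ : S' ⟶ S) {X P : Over S} {φ : AgPol.DualMap X P}

theorem invCl_pull {Y Z : Scheme.{u}} (g : Y ⟶ Z) {c : PicF.Cl Z} (h : PicF.IsInvertibleCl c) :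
    PicF.IsInvertibleCl (PicF.pullCl g c) := by
  obtain ⟨L, rfl, hL⟩ := h
  exact ⟨_, rfl, PicLoc.isInvertible_pullback g hL⟩

/-- the relative Picard representation changes base -/
theorem isRelPicK_bcDual (h : AbDual.IsRelPicK Scheme.fppfPrecoverage X.hom P φ) :
    AbDual.IsRelPicK Scheme.fppfPrecoverage (Red.bc τ X).hom (Red.bc τ P) (AgPol.bcDual τ X P φ) where
  natural := fun U U' g c hc => by
    refine eq_of_fst τ ?_
    rw [bcDual_fst, Over.comp_left, Category.assoc, bcDual_fst, ← PicLoc.pullCl_comp, ← xtMap_inv,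
      PicLoc.pullCl_comp, h.natural (dn τ U) (dn τ U') (dnHom τ g) _ (invCl_pull (Y := PicF.XT X.hom (dn τ U)) _ hc)]
    rfl
  locallySurjective := fun U g => by
    let g' : dn τ U ⟶ P := Over.homMk (g.left ≫ Limits.pullback.fst P.hom τ) (by
      rw [Category.assoc, Limits.pullback.condition, ← Category.assoc]
      exact congrArg (· ≫ τ) (Over.w g))
    obtain ⟨R, hR, hRc⟩ := h.locallySurjective (dn τ U) g'
    refine ⟨R, hR, fun {V} v hv => ?_⟩
    obtain ⟨c, hc, hφ⟩ := hRc v hv
    refine ⟨PicF.pullCl (AgPol.bcXTIso τ X (AbDual.ovr U v)).hom (PicF.pullCl (PicF.XTmap X.hom (reassoc τ v)) c),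
      invCl_pull (Z := PicF.XT X.hom (dn τ (AbDual.ovr U v))) _ (invCl_pull _ hc), eq_of_fst τ ?_⟩
    rw [bcDual_fst, pullCl_inv_hom, h.natural _ _ _ c hc, hφ, ← Category.assoc, reassoc_ovrHom]
    simp [g']
  locallyInjective := fun U c c' hc hc' he => by
    have he' : φ (dn τ U) (PicF.pullCl (AgPol.bcXTIso τ X U).inv c) =
        φ (dn τ U) (PicF.pullCl (AgPol.bcXTIso τ X U).inv c') := by
      refine Over.OverMorphism.ext ?_
      rw [← bcDual_fst, ← bcDual_fst, he]
    obtain ⟨R, hR, hRc⟩ := h.locallyInjective _ _ _ (invCl_pull (Y := PicF.XT X.hom (dn τ U)) _ hc)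
      (invCl_pull (Y := PicF.XT X.hom (dn τ U)) _ hc') he'
    refine ⟨R, hR, fun {V} v hv => ?_⟩
    have e := congrArg (fun d => PicF.pullCl (AgPol.bcXTIso τ X (AbDual.ovr U v)).hom
      (PicF.pullCl (PicF.XTmap X.hom (reassoc τ v)) d)) (hRc v hv)
    have key : ∀ d : PicF.Cl (PicF.XT (Red.bc τ X).hom U),
        PicF.pullCl (AgPol.bcXTIso τ X (AbDual.ovr U v)).hom (PicF.pullCl (PicF.XTmap X.hom (reassoc τ v))
          (PicF.pullCl (PicF.XTmap X.hom (AbDual.ovrHom (dn τ U) v)) (PicF.pullCl (AgPol.bcXTIso τ X U).inv d))) =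
          PicF.pullCl (PicF.XTmap (Red.bc τ X).hom (AbDual.ovrHom U v)) d := fun d => by
      rw [← PicLoc.pullCl_comp, ← PicLoc.pullCl_comp, ← PicLoc.pullCl_comp]
      congr 1
      rw [← cancel_mono (AgPol.bcXTIso τ X U).hom]
      simp only [Category.assoc, Iso.inv_hom_id, Category.comp_id]
      refine Limits.pullback.hom_ext ?_ ?_ <;> simp [AgPol.bcXTIso, PicF.XTmap]
    simpa only [key] using e

end baseChange

section chart

variable {k : Type u} [Field k] [IsAlgClosed k] {A : Over (Spec (CommRingCat.of k))} [GrpObj A] [IsProper A.hom]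
  [GeometricallyIntegral A.hom] {At : Over (Spec (CommRingCat.of k))} [GrpObj At] [IsProper At.hom]
  [GeometricallyIntegral At.hom] (W : Weak A At) (g₀ : ℕ) (hgA : topologicalKrullDim A.left = g₀)
  (hgB : topologicalKrullDim At.left = g₀)
  {P : Over (Spec (CommRingCat.of k))} [LocallyOfFiniteType P.hom]
  {φ : ∀ T : Over (Spec (CommRingCat.of k)), PicF.Cl (PicF.XT A.hom T) → (T ⟶ P)}
  (hP : AbDual.IsRelPicK Scheme.fppfPrecoverage A.hom P φ)

set_option maxHeartbeats 4000000 in
include W hgA hgB hP in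
/-- every closed point lies in a translate of the dual -/
theorem exists_chart (p : P.left) (hp : IsClosed ({p} : Set P.left)) :
    ∃ ψ : At ⟶ P, IsOpenImmersion ψ.left ∧ p ∈ Set.range ψ.left := by
  haveI : Smooth A.hom := by
    haveI : GrpObj (Over.mk A.hom) := inferInstanceAs (GrpObj A)
    exact smooth_of_grpObj A.hom
  haveI : GeometricallyConnected A.hom := W7See.geometricallyConnected_of_geometricallyIntegral A.hom
  have hσ : η[A].left ≫ A.hom = 𝟙 _ := Over.w η[A]
  have ha := LBDesc.isIso_XTproj_app A.hom η[A].left hσ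
  let w : 𝟙_ (Over (Spec (CommRingCat.of k))) ⟶ P :=
    Over.homMk (pointOfClosedPoint P.hom p hp) (pointOfClosedPoint_comp P.hom p hp)
  obtain ⟨c₀, hc₀r, hc₀⟩ := S12404.rig_surjective A.hom η[A].left hσ ha hP (𝟙_ _) w
  rw [secT_eq] at hc₀r
  let cT : ∀ T : Over (Spec (CommRingCat.of k)), PicLoc.PicSet (A ⊗ T).left := fun T => pull (A ◁ toUnit T).left c₀
  have hcT : ∀ T, IsRig (cT T) := fun T => IsRig.pull hc₀r _
  have hcn : ∀ {T T' : Over (Spec (CommRingCat.of k))} (h : T' ⟶ T), pull (A ◁ h).left (cT T) = cT T' := fun h => by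
    simp only [cT]
    rw [pull_pull, ← Over.comp_left, ← MonoidalCategory.whiskerLeft_comp, toUnit_unique (h ≫ toUnit _) (toUnit _)]
  have hrm : ∀ {T : Over (Spec (CommRingCat.of k))} (g : T ⟶ At), IsRig (cT T * xT W g) := fun g => by
    rw [IsRig, map_mul, hcT _, isRig_xT W g, _root_.one_mul]
  let ψ : At ⟶ P := φ At (cT At * xT W (𝟙 At)).1
  have hnat : ∀ {T T' : Over (Spec (CommRingCat.of k))} (h : T' ⟶ T) (c : PicLoc.PicSet (A ⊗ T).left),
      φ T' (pull (A ◁ h).left c).1 = h ≫ φ T c.1 := fun h c => by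
    rw [whisker_XTmap]
    exact S12404.phi_pull A.hom hP h c
  have hψ : ∀ {T : Over (Spec (CommRingCat.of k))} (g : T ⟶ At), φ T (cT T * xT W g).1 = g ≫ ψ := fun g => by
    rw [← hnat, map_mul, hcn, ← xT_comp, Category.comp_id]
  have hinj : ∀ {T : Over (Spec (CommRingCat.of k))} {c c' : PicLoc.PicSet (A ⊗ T).left}, IsRig c → IsRig c' →
      φ T c.1 = φ T c'.1 → c = c' := fun hc hc' h =>
    S12404.rig_injective A.hom η[A].left hσ ha hP _ (by rw [secT_eq]; exact hc) (by rw [secT_eq]; exact hc') h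
  haveI : Mono ψ := ⟨fun {T} a b h => xT_injective W
    (mul_left_cancel (hinj (hrm a) (hrm b) (by rw [hψ, hψ, h])))⟩
  haveI : Mono ψ.left := inferInstanceAs (Mono ((Over.forget _).map ψ))
  haveI : LocallyOfFiniteType ψ.left := by
    haveI : LocallyOfFiniteType (ψ.left ≫ P.hom) := by rw [Over.w ψ]; infer_instance
    exact locallyOfFiniteType_of_comp ψ.left P.hom
  haveI : IsLocallyNoetherian P.left := LocallyOfFiniteType.isLocallyNoetherian P.hom
  haveI : Smooth ψ.left := by
    refine InfLift.smooth_of_small_lift ψ.left fun B' B _ _ _ _ _ _ π hπ ht α β hβ comm => ?_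
    let χ := Spec.preimage (β ≫ P.hom)
    letI : Algebra k B' := χ.hom.toAlgebra
    letI : Algebra k B := (π.comp χ.hom).toAlgebra
    let π' : B' →ₐ[k] B := { π with commutes' := fun _ => rfl }
    have hχ : (sR k B').hom = β ≫ P.hom := Spec.map_preimage _
    let β' : sR k B' ⟶ P := Over.homMk β hχ.symm
    let α' : sR k B ⟶ At := Over.homMk α (by
      rw [show (sR k B).hom = Spec.map (CommRingCat.ofHom π) ≫ β ≫ P.hom by rw [← hχ]; exact Spec.map_comp _ _,
        ← Category.assoc, comm, Category.assoc, Over.w ψ])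
    have hαβ : α' ≫ ψ = sMap π' ≫ β' := Over.OverMorphism.ext comm.symm
    obtain ⟨c', hc'r, hc'⟩ : ∃ c : PicLoc.PicSet (A ⊗ sR k B').left,
        pull (PicF.secT A.hom η[A].left hσ (sR k B')) c = 1 ∧ φ (sR k B') c.1 = β' :=
      S12404.rig_surjective A.hom η[A].left hσ ha hP (sR k B') β'
    rw [secT_eq] at hc'r
    let d := c' * (cT (sR k B'))⁻¹
    have hdr : IsRig d := IsRig.div hc'r (hcT _)
    have hπc : pull (A ◁ sMap π').left c' = cT (sR k B) * xT W α' :=
      hinj (IsRig.pull hc'r _) (hrm α') (by rw [hnat, hc', hψ, hαβ])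
    have hπd : pull (A ◁ sMap π').left d = xT W α' := by
      rw [map_mul, map_inv, hπc, hcn, mul_right_comm, mul_inv_cancel, _root_.one_mul]
    have hdz : AbDual.IsPicZeroCl A.hom (sR k B') d.1 := by
      obtain ⟨L, hL, hLd⟩ := PicGrp.exists_eq_cls d
      refine ⟨L, by rw [hLd]; rfl, hL, fun x Ω _ _ σ _ => ?_⟩
      obtain ⟨t, hker, ht⟩ := ht
      have htm : t ∈ IsLocalRing.maximalIdeal B' :=
        IsLocalRing.le_maximalIdeal (RingHom.ker_ne_top π) (hker ▸ Ideal.mem_span_singleton_self t)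
      let h := (Spec.preimage σ).hom
      have hle : RingHom.ker π ≤ RingHom.ker h := by
        rw [hker, Ideal.span_singleton_le_iff_mem, RingHom.mem_ker]
        have h2 : h t * h t = 0 := by rw [← map_mul, ht t htm, map_zero]
        exact mul_self_eq_zero.1 h2
      let σ' : Spec (CommRingCat.of Ω) ⟶ (sR k B).left :=
        Spec.map (CommRingCat.ofHom (π.liftOfSurjective hπ ⟨h, hle⟩))
      have hσ' : σ' ≫ (sMap π').left = σ := by
        rw [← Spec.map_preimage σ]
        change Spec.map _ ≫ Spec.map _ = _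
        rw [← Spec.map_comp]
        exact congrArg Spec.map (CommRingCat.hom_ext (RingHom.ext fun b => π.liftOfRightInverse_comp_apply _ (Function.rightInverse_surjInv hπ) ⟨h, hle⟩ b))
      refine AVPoincare.algTrivialAt_of_pull (sMap π') hL ?_ Ω σ' σ hσ'
      rw [← whisker_XTmap, ← hLd]
      exact (congrArg (fun e : PicLoc.PicSet (A ⊗ sR k B).left => AbDual.IsPicZeroCl A.hom (sR k B) e.1) hπd).mpr
        (picZero_xT W α')
    obtain ⟨g₁, hg₁⟩ := exists_univ W g₀ hgA hgB d hdr hdz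
    refine ⟨g₁.left, ?_, ?_⟩
    · refine congrArg CommaMorphism.left (xT_injective W (?_ : xT W (sMap π' ≫ g₁) = xT W α'))
      rw [xT_comp, hg₁, hπd]
    · refine congrArg CommaMorphism.left (?_ : g₁ ≫ ψ = β')
      rw [← hψ, hg₁, mul_comm, inv_mul_cancel_right, hc']
  haveI : LocallyOfFinitePresentation ψ.left := InfLift.lfp_of_lft ψ.left
  haveI : Flat ψ.left := inferInstance
  refine ⟨ψ, IsOpenImmersion.of_flat_of_mono ψ.left, ?_⟩
  have h1 : (1 : 𝟙_ (Over (Spec (CommRingCat.of k))) ⟶ At) ≫ ψ = w := by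
    rw [← hψ]
    have hx : xT W (1 : 𝟙_ (Over (Spec (CommRingCat.of k))) ⟶ At) = 1 := W.pull_one _
    rw [hx, _root_.mul_one, ← hc₀]
    simp only [cT]
    rw [toUnit_unique (toUnit (𝟙_ _)) (𝟙 _), MonoidalCategory.whiskerLeft_id, Over.id_left]
    exact congrArg (fun c : PicLoc.PicSet _ => φ _ c.1) (PicGrp.pullHom_id_apply _ _)
  refine ⟨(1 : 𝟙_ (Over (Spec (CommRingCat.of k))) ⟶ At).left (IsLocalRing.closedPoint k), ?_⟩
  rw [← Scheme.Hom.comp_apply, ← Over.comp_left, h1]
  exact pointOfClosedPoint_apply P.hom p hp (IsLocalRing.closedPoint k)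

include W hgA hgB hP in
/-- a Picard scheme is smooth of the dimension of the variety -/
theorem smooth_and_dim : Smooth P.hom ∧ topologicalKrullDim P.left = g₀ := by
  haveI : Smooth At.hom := by
    haveI : GrpObj (Over.mk At.hom) := inferInstanceAs (GrpObj At)
    exact smooth_of_grpObj At.hom
  haveI : Smooth A.hom := by
    haveI : GrpObj (Over.mk A.hom) := inferInstanceAs (GrpObj A)
    exact smooth_of_grpObj A.hom
  haveI : GeometricallyConnected A.hom := W7See.geometricallyConnected_of_geometricallyIntegral A.hom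
  let O : P.left.Opens := ⨆ (ψ : {ψ : At ⟶ P // IsOpenImmersion ψ.left}), @Scheme.Hom.opensRange _ _ ψ.1.left ψ.2
  haveI : IsLocallyNoetherian P.left := LocallyOfFiniteType.isLocallyNoetherian P.hom
  haveI : JacobsonSpace P.left := LocallyOfFiniteType.jacobsonSpace P.hom
  have hO : ∀ x : P.left, x ∈ O := by
    by_contra hne
    push Not at hne
    obtain ⟨x, hx⟩ := hne
    obtain ⟨y, hy, hyc⟩ := nonempty_inter_closedPoints (Z := (O : Set P.left)ᶜ) ⟨x, hx⟩
      O.2.isClosed_compl.isLocallyClosed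
    obtain ⟨ψ, hψ, hyψ⟩ := exists_chart W g₀ hgA hgB hP y hyc
    exact hy (TopologicalSpace.Opens.mem_iSup.2 ⟨⟨ψ, hψ⟩, hyψ⟩)
  refine ⟨?_, le_antisymm (iSup_le fun l => ?_) ?_⟩
  · let 𝒰 : P.left.OpenCover := Scheme.Cover.mkOfCovers {ψ : At ⟶ P // IsOpenImmersion ψ.left} (fun _ => At.left)
      (fun ψ => ψ.1.left) (fun x => by
        obtain ⟨ψ, hψ⟩ := TopologicalSpace.Opens.mem_iSup.1 (hO x)
        exact ⟨ψ, hψ⟩) (fun ψ => ψ.2)
    rw [IsZariskiLocalAtSource.iff_of_openCover (P := @Smooth) 𝒰]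
    intro ψ
    change Smooth (ψ.1.left ≫ P.hom)
    rw [Over.w ψ.1]
    infer_instance
  · obtain ⟨x, hx⟩ := (l 0).isIrreducible.nonempty
    obtain ⟨⟨ψ, hψ⟩, hxψ⟩ := TopologicalSpace.Opens.mem_iSup.1 (hO x)
    haveI := hψ
    refine (TopDim.length_le_dim_open l ψ.left.opensRange hx hxψ).trans ?_
    rw [← hgB]
    exact le_of_eq ψ.left.isOpenEmbedding.isEmbedding.toHomeomorph.isHomeomorph.topologicalKrullDim_eq.symm
  · haveI : IsLocallyNoetherian P.left := LocallyOfFiniteType.isLocallyNoetherian P.hom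
    have hσ : η[A].left ≫ A.hom = 𝟙 _ := Over.w η[A]
    obtain ⟨x⟩ : Nonempty P.left :=
      ⟨(φ (𝟙_ _) (1 : PicLoc.PicSet (A ⊗ 𝟙_ (Over (Spec (CommRingCat.of k)))).left).1).left (IsLocalRing.closedPoint k)⟩
    obtain ⟨⟨ψ, hψ⟩, -⟩ := TopologicalSpace.Opens.mem_iSup.1 (hO x)
    haveI := hψ
    rw [← hgB]
    exact ψ.left.isOpenEmbedding.isInducing.topologicalKrullDim_le

end chart

end Groth.Agent.AVUniv
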