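import Groth.Agent.ExpSeq.Dual
import Groth.Agent.FMTool.AV
import Mathlib.Algebra.Category.Ring.Constructions
import Mathlib.LinearAlgebra.TensorProduct.RightExactness

/-!
Functions on the base change of a scheme over a field to an algebra with a scalar socle element.
-/

set_option autoImplicit false
set_option backward.isDefEq.respectTransparency false
set_option backward.isDefEq.respectTransparency.types false
set_option linter.style.haveILetI false
set_option linter.unusedSectionVars false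
set_option maxHeartbeats 1000000

universe u

open CategoryTheory MonoidalCategory CartesianMonoidalCategory AlgebraicGeometry TopologicalSpace
open Groth.Agent.QC (res resO resO_resO)
open scoped TensorProduct

noncomputable section

namespace Groth.Agent.AVUniv

variable {k : Type u} [Field k]

/-- the point with values in an algebra -/
abbrev sR (k : Type u) [Field k] (R : Type u) [CommRing R] [Algebra k R] : Over (Spec (CommRingCat.of k)) :=
  Over.mk (Spec.map (CommRingCat.ofHom (algebraMap k R)))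

/-- the change of algebras -/
def sMap {R R' : Type u} [CommRing R] [Algebra k R] [CommRing R'] [Algebra k R'] (π : R →ₐ[k] R') :
    sR k R' ⟶ sR k R :=
  Over.homMk (Spec.map (CommRingCat.ofHom π.toRingHom)) (by
    change Spec.map _ ≫ Spec.map _ = Spec.map _
    rw [← Spec.map_comp, ← CommRingCat.ofHom_comp, AlgHom.toRingHom_eq_coe, AlgHom.comp_algebraMap])

variable (A : Over (Spec (CommRingCat.of k))) (R : Type u) [CommRing R] [Algebra k R]

/-- scalars -/
def kc (U : A.left.Opens) : k →+* Γ(A.left, U) :=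
  (A.hom.appLE ⊤ U le_top).hom.comp (Scheme.ΓSpecIso (CommRingCat.of k)).inv.hom

theorem kc_res {U V : A.left.Opens} (h : V ≤ U) (l : k) : resO A.left h (kc A U l) = kc A V l :=
  congr($(A.hom.appLE_map le_top (homOfLE h).op).hom _)

/-- the projection to the scheme -/
abbrev pr : (A ⊗ sR k R).left ⟶ A.left := (fst A (sR k R)).left

/-- constants on the base change -/
def cst (V : (A ⊗ sR k R).left.Opens) : R →+* Γ((A ⊗ sR k R).left, V) :=
  ((snd A (sR k R)).left.appLE ⊤ V le_top).hom.comp (Scheme.ΓSpecIso (CommRingCat.of R)).inv.hom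

theorem cst_res {V W : (A ⊗ sR k R).left.Opens} (h : W ≤ V) (c : R) :
    resO _ h (cst A R V c) = cst A R W c :=
  congr($((snd A (sR k R)).left.appLE_map le_top (homOfLE h).op).hom _)

theorem app_kc (U : A.left.Opens) (l : k) :
    (pr A R).app U (kc A U l) = cst A R _ (algebraMap k R l) := by
  have h1 : A.hom.appLE ⊤ U le_top ≫ (pr A R).app U =
      ((pr A R) ≫ A.hom).appLE ⊤ ((pr A R) ⁻¹ᵁ U) le_top := by
    rw [Scheme.Hom.app_eq_appLE, Scheme.Hom.appLE_comp_appLE]
  have h2 : pr A R ≫ A.hom = (snd A (sR k R)).left ≫ (sR k R).hom := (Over.w _).trans (Over.w _).symm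
  have key : ∀ (q : (A ⊗ sR k R).left ⟶ Spec (CommRingCat.of k)) (e : q = (snd A (sR k R)).left ≫ (sR k R).hom),
      (q.appLE ⊤ ((pr A R) ⁻¹ᵁ U) le_top) ((Scheme.ΓSpecIso (CommRingCat.of k)).inv l) =
        cst A R _ (algebraMap k R l) := by
    rintro q rfl
    have h3 : (Scheme.ΓSpecIso (CommRingCat.of k)).inv ≫ (Spec.map (CommRingCat.ofHom (algebraMap k R))).appTop =
        CommRingCat.ofHom (algebraMap k R) ≫ (Scheme.ΓSpecIso (CommRingCat.of R)).inv :=
      (Scheme.ΓSpecIso_inv_naturality (CommRingCat.ofHom (algebraMap k R))).symm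
    rw [Scheme.Hom.comp_appLE]
    exact congrArg ((snd A (sR k R)).left.appLE ⊤ _ le_top).hom congr(($h3).hom l)
  exact (congr(($h1).hom _)).trans (key _ h2)

variable {A}

theorem isAffineOpen_pr {U : A.left.Opens} (hU : IsAffineOpen U) : IsAffineOpen (pr A R ⁻¹ᵁ U) := by
  haveI h : IsAffineHom (Spec.map (CommRingCat.ofHom (algebraMap k R))) := isAffineHom_of_isAffine _
  haveI : IsAffineHom (pr A R) :=
    MorphismProperty.pullback_fst (P := @IsAffineHom) A.hom (Spec.map (CommRingCat.ofHom (algebraMap k R))) h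
  exact hU.preimage _

theorem isPushout_sections {U : A.left.Opens} (hU : IsAffineOpen U) :
    IsPushout (CommRingCat.ofHom (kc A U)) (CommRingCat.ofHom (algebraMap k R)) ((pr A R).app U)
      (CommRingCat.ofHom (cst A R (pr A R ⁻¹ᵁ U))) := by
  let p := pr A R
  let q := (snd A (sR k R)).left
  have hpb : IsPullback p q A.hom (Spec.map (CommRingCat.ofHom (algebraMap k R))) :=
    IsPullback.of_hasPullback _ _
  have hUV : p ⁻¹ᵁ U = p ⁻¹ᵁ U ⊓ q ⁻¹ᵁ ⊤ := (inf_of_le_left (show p ⁻¹ᵁ U ≤ q ⁻¹ᵁ ⊤ from le_top)).symm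
  have hP := (isIso_pushoutSection_iff hpb (US := ⊤) (UT := ⊤) (UX := U) le_top le_top hUV).1
    (isIso_pushoutSection_of_isAffineOpen hpb (US := ⊤) (UT := ⊤) (UX := U) le_top le_top hUV
      (isAffineOpen_top _) (isAffineOpen_top (Spec (CommRingCat.of R))) hU)
  refine hP.of_iso (Scheme.ΓSpecIso _) (Iso.refl _) (Scheme.ΓSpecIso _) (Iso.refl _) ?_ ?_ ?_ ?_
  · simp [kc]
  · rw [← Scheme.ΓSpecIso_naturality]
    simp [Scheme.Hom.appLE]
  · simp [p, Scheme.Hom.app_eq_appLE]
  · simp [cst, q]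
    rfl

/-- functions on the preimage of an affine open are the tensor product -/
theorem exists_tensor {U : A.left.Opens} (hU : IsAffineOpen U) :
    letI : Algebra k Γ(A.left, U) := (kc A U).toAlgebra
    ∃ Φ : Γ(A.left, U) ⊗[k] R ≃+* Γ((A ⊗ sR k R).left, pr A R ⁻¹ᵁ U),
      ∀ m c, Φ (m ⊗ₜ c) = (pr A R).app U m * cst A R _ c := by
  letI : Algebra k Γ(A.left, U) := (kc A U).toAlgebra
  let h := (CommRingCat.isPushout_tensorProduct k Γ(A.left, U) R)
  let e := h.isoIsPushout _ _ (isPushout_sections R hU)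
  refine ⟨e.commRingCatIsoToRingEquiv, fun m c => ?_⟩
  have hm : e.hom (m ⊗ₜ 1) = (pr A R).app U m := congr($(h.inl_isoIsPushout_hom _ _ (isPushout_sections R hU)).hom m)
  have hc : e.hom (1 ⊗ₜ c) = cst A R _ c := congr($(h.inr_isoIsPushout_hom _ _ (isPushout_sections R hU)).hom c)
  change e.hom (m ⊗ₜ c) = _
  rw [← hm, ← hc, ← map_mul, Algebra.TensorProduct.tmul_mul_tmul, _root_.mul_one, _root_.one_mul]

variable {R}

/-- the socle element kills nothing coming from the scheme -/
theorem eq_zero_of_socle {a : R} (ha0 : a ≠ 0) {U : A.left.Opens} (hU : IsAffineOpen U) {r : Γ(A.left, U)}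
    (h : cst A R (pr A R ⁻¹ᵁ U) a * (pr A R).app U r = 0) : r = 0 := by
  letI : Algebra k Γ(A.left, U) := (kc A U).toAlgebra
  obtain ⟨Φ, hΦ⟩ := exists_tensor R hU
  have h1 : r ⊗ₜ[k] a = 0 := Φ.injective (by rw [hΦ, map_zero, _root_.mul_comm]; exact h)
  obtain ⟨f, hf⟩ : ∃ f : R →ₗ[k] k, f a = 1 :=
    Module.Projective.exists_dual_ne_zero k ha0 |>.elim fun f hf =>
      ⟨(f a)⁻¹ • f, by rw [LinearMap.smul_apply, smul_eq_mul, inv_mul_cancel₀ hf]⟩
  have h2 := congrArg (fun z => (TensorProduct.rid k Γ(A.left, U)) (f.lTensor Γ(A.left, U) z)) h1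
  simpa [hf] using h2

variable {R' : Type u} [CommRing R'] [Algebra k R']

theorem whisker_pr (π : R →ₐ[k] R') : (A ◁ sMap π).left ≫ pr A R = pr A R' :=
  congrArg (fun m => m.left) (whiskerLeft_fst A (sMap π))

/-- the change of algebras on functions -/
def red (π : R →ₐ[k] R') (U : A.left.Opens) :
    Γ((A ⊗ sR k R).left, pr A R ⁻¹ᵁ U) →+* Γ((A ⊗ sR k R').left, pr A R' ⁻¹ᵁ U) :=
  ((A ◁ sMap π).left.appLE (pr A R ⁻¹ᵁ U) (pr A R' ⁻¹ᵁ U)
    (le_of_eq (by rw [← Scheme.Hom.comp_preimage, whisker_pr]))).hom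

theorem red_app (π : R →ₐ[k] R') (U : A.left.Opens) (m : Γ(A.left, U)) :
    red π U ((pr A R).app U m) = (pr A R').app U m := by
  have key : ∀ (q : (A ⊗ sR k R').left ⟶ A.left) (e : q = (A ◁ sMap π).left ≫ pr A R)
      (h : pr A R' ⁻¹ᵁ U ≤ q ⁻¹ᵁ U), q.appLE U (pr A R' ⁻¹ᵁ U) h =
        (pr A R).app U ≫ CommRingCat.ofHom (red π U) := by
    rintro q rfl h
    rw [Scheme.Hom.comp_appLE]
    rfl
  have h1 := key (pr A R') (whisker_pr π).symm le_rfl
  rw [← Scheme.Hom.app_eq_appLE] at h1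
  exact congr(($h1).hom m).symm

theorem red_cst (π : R →ₐ[k] R') (U : A.left.Opens) (c : R) :
    red π U (cst A R _ c) = cst A R' _ (π c) := by
  have h2 : (A ◁ sMap π).left ≫ (snd A (sR k R)).left = (snd A (sR k R')).left ≫ (sMap π).left :=
    congrArg (fun m => m.left) (whiskerLeft_snd A (sMap π))
  have key : ∀ (q : (A ⊗ sR k R').left ⟶ Spec (CommRingCat.of R))
      (e : q = (snd A (sR k R')).left ≫ (sMap π).left),
      (q.appLE ⊤ (pr A R' ⁻¹ᵁ U) le_top) ((Scheme.ΓSpecIso (CommRingCat.of R)).inv c) = cst A R' _ (π c) := by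
    rintro q rfl
    rw [Scheme.Hom.comp_appLE]
    exact congrArg ((snd A (sR k R')).left.appLE ⊤ _ le_top).hom
      congr($((Scheme.ΓSpecIso_inv_naturality (CommRingCat.ofHom π.toRingHom)).symm).hom c)
  refine Eq.trans ?_ (key _ h2)
  exact congr($(Scheme.Hom.appLE_comp_appLE (A ◁ sMap π).left (snd A (sR k R)).left ⊤ _ _ le_top _).hom _)

/-- functions vanishing on the smaller thickening are multiples of the socle element -/
theorem exists_eq_socle {a : R} (ha : ∀ c : R, ∃ l : k, a * c = l • a) (π : R →ₐ[k] R')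
    (hπ : Function.Surjective π) (hker : RingHom.ker π = Ideal.span {a})
    {U : A.left.Opens} (hU : IsAffineOpen U) {t : Γ((A ⊗ sR k R).left, pr A R ⁻¹ᵁ U)} (ht : red π U t = 0) :
    ∃ r, t = cst A R _ a * (pr A R).app U r := by
  letI : Algebra k Γ(A.left, U) := (kc A U).toAlgebra
  obtain ⟨Φ, hΦ⟩ := exists_tensor R hU
  obtain ⟨Φ', hΦ'⟩ := exists_tensor R' hU
  let m : Γ(A.left, U) ⊗[k] R →ₐ[Γ(A.left, U)] Γ(A.left, U) ⊗[k] R' :=
    Algebra.TensorProduct.map (AlgHom.id _ _) π
  have hm : ∀ z, red π U (Φ z) = Φ' (m z) := fun z => by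
    induction z using TensorProduct.induction_on with
    | zero => rw [map_zero, map_zero, map_zero, map_zero]
    | tmul x c => rw [hΦ, map_mul, red_app, red_cst, Algebra.TensorProduct.map_tmul, hΦ']; rfl
    | add x y hx hy => simp only [map_add, hx, hy]
  obtain ⟨z, rfl⟩ := Φ.surjective t
  rw [hm] at ht
  have h1 : z ∈ RingHom.ker (Algebra.TensorProduct.map (AlgHom.id k Γ(A.left, U)) π) :=
    Φ'.injective (ht.trans (map_zero Φ').symm)
  rw [Algebra.TensorProduct.lTensor_ker _ hπ, hker, Ideal.map_span, Set.image_singleton,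
    Ideal.mem_span_singleton'] at h1
  obtain ⟨w, rfl⟩ := h1
  obtain ⟨r, hr⟩ : ∃ r, w * Algebra.TensorProduct.includeRight (R := k) (A := Γ(A.left, U)) a = r ⊗ₜ[k] a := by
    clear ht
    induction w using TensorProduct.induction_on with
    | zero => exact ⟨0, by simp⟩
    | tmul x c =>
      obtain ⟨l, hl⟩ := ha c
      exact ⟨l • x, by rw [Algebra.TensorProduct.includeRight_apply, Algebra.TensorProduct.tmul_mul_tmul,
        _root_.mul_one, _root_.mul_comm c, hl, TensorProduct.tmul_smul, TensorProduct.smul_tmul']⟩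
    | add x y hx hy =>
      obtain ⟨r, hr⟩ := hx
      obtain ⟨r', hr'⟩ := hy
      exact ⟨r + r', by rw [add_mul, hr, hr', TensorProduct.add_tmul]⟩
  exact ⟨r, by rw [hr, hΦ, _root_.mul_comm]⟩

theorem red_surjective (π : R →ₐ[k] R') (hπ : Function.Surjective π) {U : A.left.Opens} (hU : IsAffineOpen U) :
    Function.Surjective (red π U) := by
  letI : Algebra k Γ(A.left, U) := (kc A U).toAlgebra
  obtain ⟨Φ, hΦ⟩ := exists_tensor R hU
  obtain ⟨Φ', hΦ'⟩ := exists_tensor R' hU
  intro t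
  obtain ⟨z, rfl⟩ := Φ'.surjective t
  induction z using TensorProduct.induction_on with
  | zero => exact ⟨0, by rw [map_zero, map_zero]⟩
  | tmul x c =>
    obtain ⟨c, rfl⟩ := hπ c
    exact ⟨Φ (x ⊗ₜ c), by rw [hΦ, map_mul, red_app, red_cst, hΦ']⟩
  | add x y hx hy =>
    obtain ⟨r, hr⟩ := hx
    obtain ⟨r', hr'⟩ := hy
    exact ⟨r + r', by rw [map_add, hr, hr', map_add]⟩

end Groth.Agent.AVUniv
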