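import Groth.Agent.AVUniv.Sections
import Groth.Agent.LimDesc.Tower
import Groth.Agent.ModDesc.Descent
import Groth.Agent.ModDesc.LocFreeDesc
import Groth.Agent.W7Hull.InvNear
import Groth.Agent.ParaFLib.Ext
import Groth.Agent.ZeroSch.Basic
import Groth.Agent.CurveRR.Curve
import Groth.Agent.W7Cube.Pic

/-!
Classes on the base change of a proper scheme to an algebra come from finitely generated subalgebras.
-/

set_option autoImplicit false
set_option backward.isDefEq.respectTransparency false
set_option backward.isDefEq.respectTransparency.types false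
set_option linter.style.haveILetI false
set_option linter.unusedSectionVars false
set_option maxHeartbeats 1000000

universe u

open CategoryTheory MonoidalCategory CartesianMonoidalCategory AlgebraicGeometry Opposite
open Groth.Agent.W7Cube (pull pull_pull pull_cls)

noncomputable section

namespace Groth.Agent.AVUniv

variable (k : Type u) [Field k] (R : Type u) [CommRing R] [Algebra k R]

/-- finitely generated subalgebras over the field -/
abbrev KSub : Type u := {B : Subalgebra k R // B.FG}

instance : IsFiltered (KSub k R) := by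
  haveI : Nonempty (KSub k R) := ⟨⟨⊥, Subalgebra.fg_bot⟩⟩
  haveI : IsDirectedOrder (KSub k R) :=
    ⟨fun B C => ⟨⟨B.1 ⊔ C.1, B.2.sup C.2⟩, (le_sup_left : B.1 ≤ B.1 ⊔ C.1), (le_sup_right : C.1 ≤ B.1 ⊔ C.1)⟩⟩
  infer_instance

/-- the system of finitely generated subalgebras -/
def kFunctor : KSub k R ⥤ CommRingCat.{u} where
  obj B := CommRingCat.of B.1
  map h := CommRingCat.ofHom (Subalgebra.inclusion (leOfHom h : _ ≤ _)).toRingHom

/-- the cocone of the system -/
def kCocone : Limits.Cocone (kFunctor k R) where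
  pt := CommRingCat.of R
  ι := { app := fun B => CommRingCat.ofHom B.1.val.toRingHom }

/-- the system has the algebra as colimit -/
def kIsColimit : Limits.IsColimit (kCocone k R) := by
  haveI : Limits.PreservesColimit (kFunctor k R) (forget CommRingCat.{u}) :=
    (inferInstance : Limits.PreservesFilteredColimits (forget CommRingCat.{u})).preserves_filtered_colimits _ |>.preservesColimit
  haveI : Limits.ReflectsColimit (kFunctor k R) (forget CommRingCat.{u}) :=
    Limits.reflectsColimit_of_reflectsIsomorphisms _ _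
  refine Limits.isColimitOfReflects (forget CommRingCat.{u}) (Limits.Types.FilteredColimit.isColimitOf _ _ ?_ ?_)
  · intro x
    let B : KSub k R := ⟨Algebra.adjoin k {(show R from x)}, by
      simpa using Subalgebra.fg_adjoin_finset (R := k) ({(show R from x)} : Finset R)⟩
    exact ⟨B, ⟨(show R from x), Algebra.subset_adjoin (Set.mem_singleton _)⟩, rfl⟩
  · intro B C x y h
    let E : KSub k R := ⟨B.1 ⊔ C.1, B.2.sup C.2⟩
    exact ⟨E, homOfLE (le_sup_left : B.1 ≤ B.1 ⊔ C.1), homOfLE (le_sup_right : C.1 ≤ B.1 ⊔ C.1), Subtype.ext h⟩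

/-- the system of spectra -/
def kDiagram : (KSub k R)ᵒᵖ ⥤ Scheme.{u} := (kFunctor k R).op ⋙ Scheme.Spec

/-- its cone -/
def kCone : Limits.Cone (kDiagram k R) := Scheme.Spec.mapCone (kCocone k R).op

/-- the cone is a limit -/
def kIsLimit : Limits.IsLimit (kCone k R) := Limits.isLimitOfPreserves Scheme.Spec (kIsColimit k R).op

instance {i j : (KSub k R)ᵒᵖ} (f : i ⟶ j) : IsAffineHom ((kDiagram k R).map f) :=
  inferInstanceAs (IsAffineHom (Spec.map _))

variable {k R}

set_option maxHeartbeats 2000000 in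
/-- **a class on the base change comes from a finitely generated subalgebra** -/
theorem exists_stage_class (A : Over (Spec (CommRingCat.of k))) [IsProper A.hom]
    (c : PicLoc.PicSet (A ⊗ sR k R).left) :
    ∃ (B : Subalgebra k R) (_ : B.FG) (c0 : PicLoc.PicSet (A ⊗ sR k ↥B).left),
      pull (A ◁ sMap B.val).left c0 = c := by
  obtain ⟨L, hL, rfl⟩ := PicGrp.exists_eq_cls c
  haveI : IsCofiltered (KSub k R)ᵒᵖ := isCofiltered_op_of_isFiltered _
  let bot : KSub k R := ⟨⊥, Subalgebra.fg_bot⟩
  let i₀ : (KSub k R)ᵒᵖ := op bot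
  let S₀ : Over (Spec (CommRingCat.of k)) := sR k ↥(bot.1)
  let v₀ : sR k R ⟶ S₀ := sMap bot.1.val
  let Y₀ := (A ⊗ S₀).left
  let g₀ : Y₀ ⟶ (kDiagram k R).obj i₀ := (snd A S₀).left
  have hY : IsPullback (A ◁ v₀).left (snd A (sR k R)).left g₀ ((kCone k R).π.app i₀) :=
    FMTool.isPullback_whiskerLeft (A := A) v₀
  haveI : IsProper (snd A S₀).left :=
    MorphismProperty.pullback_snd (P := @IsProper) A.hom S₀.hom inferInstance
  haveI : IsAffine S₀.left := inferInstanceAs (IsAffine (Spec (CommRingCat.of ↥(bot.1))))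
  haveI : CompactSpace Y₀ := QuasiCompact.compactSpace_of_compactSpace (snd A S₀).left
  haveI : QuasiSeparatedSpace Y₀ := quasiSeparatedSpace_of_quasiSeparated (snd A S₀).left
  let D' := LimDesc.tower (kDiagram k R) g₀
  let c' := LimDesc.towerCone (kDiagram k R) g₀ (kCone k R) hY
  have hc' : Limits.IsLimit c' := LimDesc.isLimitTowerCone (kDiagram k R) g₀ (kCone k R) hY (kIsLimit k R)
  haveI : CompactSpace (D'.obj (Over.mk (𝟙 i₀))) := LimDesc.compactSpace_stage _ g₀ _
  haveI : QuasiSeparatedSpace (D'.obj (Over.mk (𝟙 i₀))) := LimDesc.quasiSeparatedSpace_stage _ g₀ _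
  haveI : Coh.IsQCoh (X := c'.pt) L := TMul.isQCoh_of_isInvertible hL
  obtain ⟨j₁, _, G, hGq, hGf, ⟨e⟩⟩ := ModDesc.exists_descend (D := D') (c := c') hc' (F := L)
    (W7Hull.isFP_of_isInvertible hL) (i₀ := Over.mk (𝟙 i₀))
  haveI := hGq
  haveI : CompactSpace (D'.obj j₁) := LimDesc.compactSpace_stage _ g₀ _
  have hr : FlatMod.IsFinLocFreeOfRank 1 ((Scheme.Modules.pullback (c'.π.app j₁)).obj G) :=
    CurveRR.isFinLocFreeOfRank_one (ParaFLib.isInvertible_of_iso e.symm hL)
  obtain ⟨j, φ, hj⟩ := ModDesc.exists_isFinLocFreeOfRank_stage D' c' hc' hGf hr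
  let B : KSub k R := j.left.unop
  let S : Over (Spec (CommRingCat.of k)) := sR k ↥(B.1)
  have hle : bot.1 ≤ B.1 := bot_le
  let ψ : (A ⊗ S).left ⟶ D'.obj j :=
    Limits.pullback.lift (A ◁ sMap (Subalgebra.inclusion hle)).left (snd A S).left (by
      refine (congrArg (fun m => m.left) (whiskerLeft_snd A (sMap (Subalgebra.inclusion hle)))).trans ?_
      rfl)
  have hψ : (A ◁ sMap B.1.val).left ≫ ψ = c'.π.app j := by
    refine Limits.pullback.hom_ext ?_ ?_
    · rw [Category.assoc, Limits.pullback.lift_fst, ← Over.comp_left, ← MonoidalCategory.whiskerLeft_comp]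
      refine Eq.trans ?_ (LimDesc.proj_toBase (kDiagram k R) g₀ (kCone k R) hY j).symm
      refine congrArg (fun m => (A ◁ m).left) (Over.OverMorphism.ext ?_)
      change Spec.map _ ≫ Spec.map _ = Spec.map _
      rw [← Spec.map_comp]
      rfl
    · rw [Category.assoc, Limits.pullback.lift_snd]
      refine Eq.trans ?_ (LimDesc.proj_toStage (kDiagram k R) g₀ (kCone k R) hY j).symm
      exact congrArg (fun m => m.left) (whiskerLeft_snd A (sMap B.1.val))
  refine ⟨B.1, B.2, pull ψ (PicGrp.cls _ (ZeroSch.isInvertible_of_rankOne hj)), ?_⟩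
  rw [pull_pull, hψ, pull_cls, PicGrp.cls_eq_cls_iff]
  exact ⟨(ModDesc.trIso (c'.π.app j) (D'.map φ) (c'.w φ)).app G ≪≫ e⟩

end Groth.Agent.AVUniv
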